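/-
Few classes of involutions and a large Sylow subgroup: not alternating.
-/
import Mathlib
set_option autoImplicit false

namespace CF.Ge
open Equiv Equiv.Perm

theorem na_of {X : Type*} [Group X] (l : List X) (hl : l.length ≤ 4) (c : ∀ x, x * x = 1 → x ≠ 1 → ∃ y ∈ l, IsConj y x)
    (d : 2 ^ 17 ∣ Nat.card X) (n : ℕ) : IsEmpty (X ≃* alternatingGroup (Fin n)) := ⟨fun f => by
  classical
  by_cases k : n < 20
  · have : 2 ^ 17 ∣ n.factorial := by
      rw [Nat.card_congr f.toEquiv] at d
      simpa [Fintype.card_perm] using d.trans (Subgroup.card_subgroup_dvd_card _)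
    exact absurd (this.trans (Nat.factorial_dvd_factorial (Nat.le_of_lt_succ k))) (by norm_num [Nat.factorial])
  have : ∀ i : Fin 5, ∃ y ∈ l, (f y : Perm (Fin n)).cycleType = Multiset.replicate (2 * (i + 1)) 2 := fun i => by
    obtain ⟨g, e⟩ := (exists_with_cycleType_iff (Fin n) (m := Multiset.replicate (2 * (i + 1)) 2)).2
      ⟨by simp; omega, fun a m => (Multiset.eq_of_mem_replicate m).ge⟩
    have m : g ∈ alternatingGroup (Fin n) := by
      rw [mem_alternatingGroup, sign_of_cycleType', e]; simp [pow_mul]
    obtain ⟨y, p, q⟩ := c (f.symm ⟨g, m⟩) (by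
      rw [← map_mul, f.symm.map_eq_one_iff, Subtype.ext_iff]
      change g * g = 1
      rw [← sq, ← orderOf_dvd_iff_pow_eq_one, ← lcm_cycleType, e, Multiset.lcm_dvd]
      exact fun b m => (Multiset.eq_of_mem_replicate m).dvd) (by
      rw [Ne, f.symm.map_eq_one_iff, Subtype.ext_iff]
      rintro rfl
      simpa using congrArg Multiset.card e)
    refine ⟨y, p, e ▸ isConj_iff_cycleType_eq.1 ?_⟩
    simpa using ((alternatingGroup (Fin n)).subtype.comp f.toMonoidHom).map_isConj q
  choose y p e using this
  have := Finset.card_le_card_of_injOn (s := Finset.univ) (t := l.toFinset) y (fun i _ => by simpa using p i) fun i _ j _ k => by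
    have := congrArg Multiset.card ((e i).symm.trans (k ▸ e j))
    simp only [Multiset.card_replicate] at this
    omega
  have := l.toFinset_card_le
  simp at *
  omega⟩

end CF.Ge
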